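import Cfsg.Agent.Comp.A11.Main
import Cfsg.Agent.Comp.Mat2

set_option autoImplicit false
set_option maxRecDepth 100000

namespace Cfsg.Agent.Comp.A11
open Cfsg.Agent.Comp Equiv

/-- the three-cycles -/
def cy (x : ℕ) : Perm (Fin 11) :=
  if x % 2 = 0 then swap (Fin.ofNat 11 (x / 2)) 9 * swap 9 10 else swap 9 10 * swap (Fin.ofNat 11 (x / 2)) 9

theorem satC : Sat cy R := by
  intro w hw
  exact Equiv.ext ((by decide +kernel : ∀ w ∈ R, ∀ i, ev cy w i = i) w hw)

theorem cy_mem : ∀ x < 18, ∃ g, (alternatingGroup (Fin 11)).subtype g = cy x := fun x hx =>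
  ⟨⟨cy x, by
    have h : Fin.ofNat 11 (x / 2) ≠ 9 := by revert x; decide
    rw [Perm.mem_alternatingGroup, cy]
    split_ifs <;> rw [map_mul, Perm.sign_swap h, Perm.sign_swap (by decide)] <;> rfl⟩, rfl⟩

theorem iso : Nonempty (G ≃* alternatingGroup (Fin 11)) := by
  have := simple
  have := card.1
  refine ⟨(pres.equiv_of_card hR _ (sat_liftS (Subgroup.subtype_injective _) cy_mem hR satC)
    (x := 0) (by norm_num) (fun c => ?_) ?_).choose⟩
  · have h := liftS_val (cy_mem 0 (by norm_num))
    rw [c, map_one] at h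
    exact absurd h (by decide)
  · have := two_mul_nat_card_alternatingGroup (α := Fin 11)
    rw [Nat.card_perm, Nat.card_fin] at this
    rw [card.2.1]
    norm_num [Nat.factorial] at this ⊢
    omega

end Cfsg.Agent.Comp.A11
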