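import Cfsg.Agent.Comp.A11.Pres

set_option autoImplicit false
set_option maxRecDepth 100000

namespace Cfsg.Agent.Comp.A11
open Cfsg.Agent.Comp

noncomputable def n0 : Net :=
(Net.cons (nat_lit 0x18) (nat_lit 6)
(Net.cons (nat_lit 0x2) (nat_lit 3)
(Net.cons (nat_lit 0x1) (nat_lit 1)
(Net.cons (nat_lit 0x3) (nat_lit 3)
(Net.cons (nat_lit 0x18) (nat_lit 6)
Net.nil)))))

noncomputable def n1 : Net :=
(Net.cons (nat_lit 0x18) (nat_lit 6)
(Net.cons (nat_lit 0x8) (nat_lit 1)
(Net.cons (nat_lit 0x1) (nat_lit 3)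
(Net.cons (nat_lit 0x18) (nat_lit 6)
Net.nil))))

noncomputable def n2 : Net :=
(Net.cons (nat_lit 0x18) (nat_lit 6)
(Net.cons (nat_lit 0x8) (nat_lit 1)
(Net.cons (nat_lit 0x2) (nat_lit 3)
(Net.cons (nat_lit 0x18) (nat_lit 6)
Net.nil))))

noncomputable def n3 : Net :=
(Net.cons (nat_lit 0x18) (nat_lit 6)
(Net.cons (nat_lit 0x2) (nat_lit 3)
(Net.cons (nat_lit 0x8) (nat_lit 1)
(Net.cons (nat_lit 0x18) (nat_lit 6)
Net.nil))))

noncomputable def n4 : Net :=
(Net.cons (nat_lit 0x18) (nat_lit 6)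
(Net.cons (nat_lit 0x4) (nat_lit 3)
(Net.cons (nat_lit 0x8) (nat_lit 1)
(Net.cons (nat_lit 0x10) (nat_lit 1)
(Net.cons (nat_lit 0x4) (nat_lit 3)
(Net.cons (nat_lit 0x18) (nat_lit 6)
Net.nil))))))

noncomputable def n5 : Net :=
(Net.cons (nat_lit 0x18) (nat_lit 6)
(Net.cons (nat_lit 0x4) (nat_lit 3)
(Net.cons (nat_lit 0x10) (nat_lit 1)
(Net.cons (nat_lit 0x8) (nat_lit 1)
(Net.cons (nat_lit 0x4) (nat_lit 3)
(Net.cons (nat_lit 0x18) (nat_lit 6)
Net.nil))))))

noncomputable def n6 : Net :=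
(Net.cons (nat_lit 0x10) (nat_lit 6)
(Net.cons (nat_lit 0x8) (nat_lit 1)
(Net.cons (nat_lit 0x18) (nat_lit 6)
Net.nil)))

noncomputable def n7 : Net :=
(Net.cons (nat_lit 0x200) (nat_lit 1)
(Net.cons (nat_lit 0x8) (nat_lit 6)
Net.nil))

noncomputable def n8 : Net :=
(Net.cons (nat_lit 0x200) (nat_lit 1)
(Net.cons (nat_lit 0x10) (nat_lit 6)
Net.nil))

noncomputable def n9 : Net :=
(Net.cons (nat_lit 0x10) (nat_lit 6)
(Net.cons (nat_lit 0x200) (nat_lit 1)
Net.nil))

noncomputable def n10 : Net :=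
(Net.cons (nat_lit 0x18) (nat_lit 6)
(Net.cons (nat_lit 0x8) (nat_lit 1)
(Net.cons (nat_lit 0x10) (nat_lit 1)
(Net.cons (nat_lit 0x18) (nat_lit 6)
Net.nil))))

noncomputable def n11 : Net :=
(Net.cons (nat_lit 0x18) (nat_lit 6)
(Net.cons (nat_lit 0x10) (nat_lit 1)
(Net.cons (nat_lit 0x8) (nat_lit 1)
(Net.cons (nat_lit 0x18) (nat_lit 6)
Net.nil))))

noncomputable def n12 : Net :=
(Net.cons (nat_lit 0x80) (nat_lit 3)
(Net.cons (nat_lit 0x40) (nat_lit 1)
(Net.cons (nat_lit 0xc0) (nat_lit 3)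
Net.nil)))

noncomputable def n13 : Net :=
(Net.cons (nat_lit 0x200) (nat_lit 1)
(Net.cons (nat_lit 0x40) (nat_lit 3)
Net.nil))

noncomputable def n14 : Net :=
(Net.cons (nat_lit 0x200) (nat_lit 1)
(Net.cons (nat_lit 0x80) (nat_lit 3)
Net.nil))

noncomputable def n15 : Net :=
(Net.cons (nat_lit 0x80) (nat_lit 3)
(Net.cons (nat_lit 0x200) (nat_lit 1)
Net.nil))

noncomputable def n16 : Net :=
(Net.cons (nat_lit 0xc0) (nat_lit 3)
(Net.cons (nat_lit 0x40) (nat_lit 1)
(Net.cons (nat_lit 0x80) (nat_lit 1)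
(Net.cons (nat_lit 0xc0) (nat_lit 3)
Net.nil))))

noncomputable def n17 : Net :=
(Net.cons (nat_lit 0xc0) (nat_lit 3)
(Net.cons (nat_lit 0x80) (nat_lit 1)
(Net.cons (nat_lit 0x40) (nat_lit 1)
(Net.cons (nat_lit 0xc0) (nat_lit 3)
Net.nil))))

noncomputable def T : List Net := [n0, n1, n2, n3, n4, n5, n6, n7, n8, n9, n10, n11, n12, n13, n14, n15, n16, n17]

theorem ok : TOK 11 T := TOK_of_ok (by decide +kernel)

def E : List (List Nat × List Nat) :=
  []

theorem sat : Sat (sig T) R :=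
  sat_of_relsP ok (by norm_num) (show relsP (nat_lit 11) (nat_lit 4) (nat_lit 0) (nat_lit 4) T R = true by decide +kernel)

theorem eqs : ∀ e ∈ E, ev (sig T) e.1 = ev (sig T) e.2 := eqs_nil _

def lowW1 : List (List Nat) := [[2],
   [3],
   [4],
   [5],
   [6],
   [7],
   [8],
   [9],
   [10],
   [11],
   [12],
   [13],
   [14],
   [15],
   [16],
   [17]]

def lowW2 : List (List Nat) := [[4],
   [5],
   [6],
   [7],
   [8],
   [9],
   [10],
   [11],
   [12],
   [13],
   [14],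
   [15],
   [16],
   [17]]

def lowW3 : List (List Nat) := [[6],
   [7],
   [8],
   [9],
   [10],
   [11],
   [12],
   [13],
   [14],
   [15],
   [16],
   [17]]

def lowW4 : List (List Nat) := [[8],
   [9],
   [10],
   [11],
   [12],
   [13],
   [14],
   [15],
   [16],
   [17]]

def lowW5 : List (List Nat) := [[10],
   [11],
   [12],
   [13],
   [14],
   [15],
   [16],
   [17]]

def lowW6 : List (List Nat) := [[12],
   [13],
   [14],
   [15],
   [16],
   [17]]

def lowW7 : List (List Nat) := [[14],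
   [15],
   [16],
   [17]]

def lowW8 : List (List Nat) := [[16],
   [17]]

theorem low_8 : 3 ≤ Nat.card (genW (sig T) lowW8) :=
  chain_step (W' := []) (b := 8) (n := 3) (m := 1) ok (le_of_subOK eqs (show subOK lowW8 [] E = true by decide +kernel)) (by decide +kernel)
    (le_ncard_of_ivl (a := 8) ok (by norm_num) (show Nat.beq (grow T lowW8 [0, 0] (pt (nat_lit 8))) (ivl (nat_lit 8) (nat_lit 3)) = true by decide +kernel))
    (chain_base ok [])

theorem low_7 : 12 ≤ Nat.card (genW (sig T) lowW7) :=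
  chain_step (W' := lowW8) (b := 7) (n := 4) (m := 3) ok (le_of_subOK eqs (show subOK lowW7 lowW8 E = true by decide +kernel)) (by decide +kernel)
    (le_ncard_of_ivl (a := 7) ok (by norm_num) (show Nat.beq (grow T lowW7 [0, 0, 2] (pt (nat_lit 7))) (ivl (nat_lit 7) (nat_lit 4)) = true by decide +kernel))
    low_8

theorem low_6 : 60 ≤ Nat.card (genW (sig T) lowW6) :=
  chain_step (W' := lowW7) (b := 6) (n := 5) (m := 12) ok (le_of_subOK eqs (show subOK lowW6 lowW7 E = true by decide +kernel)) (by decide +kernel)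
    (le_ncard_of_ivl (a := 6) ok (by norm_num) (show Nat.beq (grow T lowW6 [0, 0, 2, 4] (pt (nat_lit 6))) (ivl (nat_lit 6) (nat_lit 5)) = true by decide +kernel))
    low_7

theorem low_5 : 360 ≤ Nat.card (genW (sig T) lowW5) :=
  chain_step (W' := lowW6) (b := 5) (n := 6) (m := 60) ok (le_of_subOK eqs (show subOK lowW5 lowW6 E = true by decide +kernel)) (by decide +kernel)
    (le_ncard_of_ivl (a := 5) ok (by norm_num) (show Nat.beq (grow T lowW5 [0, 0, 2, 4, 6] (pt (nat_lit 5))) (ivl (nat_lit 5) (nat_lit 6)) = true by decide +kernel))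
    low_6

theorem low_4 : 2520 ≤ Nat.card (genW (sig T) lowW4) :=
  chain_step (W' := lowW5) (b := 4) (n := 7) (m := 360) ok (le_of_subOK eqs (show subOK lowW4 lowW5 E = true by decide +kernel)) (by decide +kernel)
    (le_ncard_of_ivl (a := 4) ok (by norm_num) (show Nat.beq (grow T lowW4 [0, 0, 2, 4, 6, 8] (pt (nat_lit 4))) (ivl (nat_lit 4) (nat_lit 7)) = true by decide +kernel))
    low_5

theorem low_3 : 20160 ≤ Nat.card (genW (sig T) lowW3) :=
  chain_step (W' := lowW4) (b := 3) (n := 8) (m := 2520) ok (le_of_subOK eqs (show subOK lowW3 lowW4 E = true by decide +kernel)) (by decide +kernel)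
    (le_ncard_of_ivl (a := 3) ok (by norm_num) (show Nat.beq (grow T lowW3 [0, 0, 2, 4, 6, 8, 10] (pt (nat_lit 3))) (ivl (nat_lit 3) (nat_lit 8)) = true by decide +kernel))
    low_4

theorem low_2 : 181440 ≤ Nat.card (genW (sig T) lowW2) :=
  chain_step (W' := lowW3) (b := 2) (n := 9) (m := 20160) ok (le_of_subOK eqs (show subOK lowW2 lowW3 E = true by decide +kernel)) (by decide +kernel)
    (le_ncard_of_ivl (a := 2) ok (by norm_num) (show Nat.beq (grow T lowW2 [0, 0, 2, 4, 6, 8, 10, 12] (pt (nat_lit 2))) (ivl (nat_lit 2) (nat_lit 9)) = true by decide +kernel))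
    low_3

theorem low_1 : 1814400 ≤ Nat.card (genW (sig T) lowW1) :=
  chain_step (W' := lowW2) (b := 1) (n := 10) (m := 181440) ok (le_of_subOK eqs (show subOK lowW1 lowW2 E = true by decide +kernel)) (by decide +kernel)
    (le_ncard_of_ivl (a := 1) ok (by norm_num) (show Nat.beq (grow T lowW1 [0, 0, 2, 4, 6, 8, 10, 12, 14] (pt (nat_lit 1))) (ivl (nat_lit 1) (nat_lit 10)) = true by decide +kernel))
    low_2

theorem low : 19958400 ≤ Nat.card (genW (sig T) (letters 18)) :=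
  chain_step (W' := lowW1) (b := 0) (n := 11) (m := 1814400) ok (le_of_subOK eqs (show subOK (letters 18) lowW1 E = true by decide +kernel)) (by decide +kernel)
    (le_ncard_of_ivl (a := 0) ok (by norm_num) (show Nat.beq (grow T (letters 18) [0, 0, 2, 4, 6, 8, 10, 12, 14, 16] (pt (nat_lit 0))) (ivl (nat_lit 0) (nat_lit 11)) = true by decide +kernel))
    low_1


end Cfsg.Agent.Comp.A11
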