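import Cfsg.Agent.Comp.Extra

set_option autoImplicit false
set_option maxRecDepth 100000

namespace Cfsg.Agent.Comp.A11
open Cfsg.Agent.Comp

def R : List (List Nat) :=
  [[0, 1],
   [1, 0],
   [2, 3],
   [3, 2],
   [4, 5],
   [5, 4],
   [6, 7],
   [7, 6],
   [8, 9],
   [9, 8],
   [10, 11],
   [11, 10],
   [12, 13],
   [13, 12],
   [14, 15],
   [15, 14],
   [16, 17],
   [17, 16],
   [0, 0, 0],
   [2, 2, 2],
   [4, 4, 4],
   [6, 6, 6],
   [8, 8, 8],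
   [10, 10, 10],
   [12, 12, 12],
   [14, 14, 14],
   [16, 16, 16],
   [0, 2, 0, 2],
   [0, 4, 0, 4],
   [0, 6, 0, 6],
   [0, 8, 0, 8],
   [0, 10, 0, 10],
   [0, 12, 0, 12],
   [0, 14, 0, 14],
   [0, 16, 0, 16],
   [2, 4, 2, 4],
   [2, 6, 2, 6],
   [2, 8, 2, 8],
   [2, 10, 2, 10],
   [2, 12, 2, 12],
   [2, 14, 2, 14],
   [2, 16, 2, 16],
   [4, 6, 4, 6],
   [4, 8, 4, 8],
   [4, 10, 4, 10],
   [4, 12, 4, 12],
   [4, 14, 4, 14],
   [4, 16, 4, 16],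
   [6, 8, 6, 8],
   [6, 10, 6, 10],
   [6, 12, 6, 12],
   [6, 14, 6, 14],
   [6, 16, 6, 16],
   [8, 10, 8, 10],
   [8, 12, 8, 12],
   [8, 14, 8, 14],
   [8, 16, 8, 16],
   [10, 12, 10, 12],
   [10, 14, 10, 14],
   [10, 16, 10, 16],
   [12, 14, 12, 14],
   [12, 16, 12, 16],
   [14, 16, 14, 16]]

def iv : Nat := 775590533423227384864183487489

/-- the presented group -/
abbrev G : Type := Pres 18 R

/-- the letters -/
def s : ℕ → G := presS 18 R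

theorem hR : ∀ w ∈ R, ∀ x ∈ w, x < 18 := by decide +kernel

theorem pres : IsPres s 18 R := isPres_pres hR

end Cfsg.Agent.Comp.A11
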