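import Cfsg.Agent.Comp.TC
import Cfsg.Agent.Comp.A11.Pres

set_option autoImplicit false
set_option maxRecDepth 100000

namespace Cfsg.Agent.Comp.A11.Top
open Cfsg.Agent.Comp

noncomputable def t0 : Tr := (Tr.leaf (nat_lit 0xfffffffffffffffffffffffffffffffffffffffffffffffffffffffff000fffffffffffffffffffffffffffffffffffffffffffffffffffffffff000fffffffffffffffffffffffffffffffffffffffffffffffffffffffff000fffffffffffffffffffffffffffffffffffffffffffffffffffffffff000fffffffffffffffffffffffffffffffffffffffffffffffffffffffffa31fff0920110da0fa0da0fa0da0fa0da0fa0da0fa0da0fa0da0fa0da0fa9f1fff0d90f90920110d90f90d90f90d90f90d90f90d90f90d90f90d90f99b1fff0d80f80d80f80920110d80f80d80f80d80f80d80f80d80f80d80f8971fff0d70f70d70f70d70f70920110d70f70d70f70d70f70d70f70d70f7931fff0d60f60d60f60d60f60d60f60920110d60f60d60f60d60f60d60f68f1fff0d50f50d50f50d50f50d50f50d50f50920110d50f50d50f50d50f58b1fff0d40f40d40f40d40f40d40f40d40f40d40f40920110d40f40d40f4871fff0d30f30d30f30d30f30d30f30d30f30d30f30d30f30920110d30f3430fff0510ba0510b90510b80510b70510b60510b50510b40510b3051010410fff03a072039072038072037072036072035072034072033072010072000fff050030050030050030050030050030050030050030050030032031))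

noncomputable def T : Tr := t0

def RT : List (List (List Nat)) := [
  [],
  [[nat_lit 0, nat_lit 0],
   [nat_lit 2, nat_lit 0, nat_lit 2],
   [nat_lit 4, nat_lit 0, nat_lit 4],
   [nat_lit 6, nat_lit 0, nat_lit 6],
   [nat_lit 8, nat_lit 0, nat_lit 8],
   [nat_lit 10, nat_lit 0, nat_lit 10],
   [nat_lit 12, nat_lit 0, nat_lit 12],
   [nat_lit 14, nat_lit 0, nat_lit 14],
   [nat_lit 16, nat_lit 0, nat_lit 16]],
  [[nat_lit 19]],
  [[nat_lit 0, nat_lit 2, nat_lit 0],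
   [nat_lit 2, nat_lit 2],
   [nat_lit 4, nat_lit 2, nat_lit 4],
   [nat_lit 6, nat_lit 2, nat_lit 6],
   [nat_lit 8, nat_lit 2, nat_lit 8],
   [nat_lit 10, nat_lit 2, nat_lit 10],
   [nat_lit 12, nat_lit 2, nat_lit 12],
   [nat_lit 14, nat_lit 2, nat_lit 14],
   [nat_lit 16, nat_lit 2, nat_lit 16]],
  [[nat_lit 19]],
  [[nat_lit 0, nat_lit 4, nat_lit 0],
   [nat_lit 4, nat_lit 4],
   [nat_lit 2, nat_lit 4, nat_lit 2],
   [nat_lit 6, nat_lit 4, nat_lit 6],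
   [nat_lit 8, nat_lit 4, nat_lit 8],
   [nat_lit 10, nat_lit 4, nat_lit 10],
   [nat_lit 12, nat_lit 4, nat_lit 12],
   [nat_lit 14, nat_lit 4, nat_lit 14],
   [nat_lit 16, nat_lit 4, nat_lit 16]],
  [[nat_lit 19]],
  [[nat_lit 0, nat_lit 6, nat_lit 0],
   [nat_lit 6, nat_lit 6],
   [nat_lit 2, nat_lit 6, nat_lit 2],
   [nat_lit 4, nat_lit 6, nat_lit 4],
   [nat_lit 8, nat_lit 6, nat_lit 8],
   [nat_lit 10, nat_lit 6, nat_lit 10],
   [nat_lit 12, nat_lit 6, nat_lit 12],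
   [nat_lit 14, nat_lit 6, nat_lit 14],
   [nat_lit 16, nat_lit 6, nat_lit 16]],
  [[nat_lit 19]],
  [[nat_lit 0, nat_lit 8, nat_lit 0],
   [nat_lit 8, nat_lit 8],
   [nat_lit 2, nat_lit 8, nat_lit 2],
   [nat_lit 4, nat_lit 8, nat_lit 4],
   [nat_lit 6, nat_lit 8, nat_lit 6],
   [nat_lit 10, nat_lit 8, nat_lit 10],
   [nat_lit 12, nat_lit 8, nat_lit 12],
   [nat_lit 14, nat_lit 8, nat_lit 14],
   [nat_lit 16, nat_lit 8, nat_lit 16]],
  [[nat_lit 19]],
  [[nat_lit 0, nat_lit 10, nat_lit 0],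
   [nat_lit 10, nat_lit 10],
   [nat_lit 2, nat_lit 10, nat_lit 2],
   [nat_lit 4, nat_lit 10, nat_lit 4],
   [nat_lit 6, nat_lit 10, nat_lit 6],
   [nat_lit 8, nat_lit 10, nat_lit 8],
   [nat_lit 12, nat_lit 10, nat_lit 12],
   [nat_lit 14, nat_lit 10, nat_lit 14],
   [nat_lit 16, nat_lit 10, nat_lit 16]],
  [[nat_lit 19]],
  [[nat_lit 0, nat_lit 12, nat_lit 0],
   [nat_lit 12, nat_lit 12],
   [nat_lit 2, nat_lit 12, nat_lit 2],
   [nat_lit 4, nat_lit 12, nat_lit 4],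
   [nat_lit 6, nat_lit 12, nat_lit 6],
   [nat_lit 8, nat_lit 12, nat_lit 8],
   [nat_lit 10, nat_lit 12, nat_lit 10],
   [nat_lit 14, nat_lit 12, nat_lit 14],
   [nat_lit 16, nat_lit 12, nat_lit 16]],
  [[nat_lit 19]],
  [[nat_lit 0, nat_lit 14, nat_lit 0],
   [nat_lit 14, nat_lit 14],
   [nat_lit 2, nat_lit 14, nat_lit 2],
   [nat_lit 4, nat_lit 14, nat_lit 4],
   [nat_lit 6, nat_lit 14, nat_lit 6],
   [nat_lit 8, nat_lit 14, nat_lit 8],
   [nat_lit 10, nat_lit 14, nat_lit 10],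
   [nat_lit 12, nat_lit 14, nat_lit 12],
   [nat_lit 16, nat_lit 14, nat_lit 16]],
  [[nat_lit 19]],
  [[nat_lit 0, nat_lit 16, nat_lit 0],
   [nat_lit 16, nat_lit 16],
   [nat_lit 2, nat_lit 16, nat_lit 2],
   [nat_lit 4, nat_lit 16, nat_lit 4],
   [nat_lit 6, nat_lit 16, nat_lit 6],
   [nat_lit 8, nat_lit 16, nat_lit 8],
   [nat_lit 10, nat_lit 16, nat_lit 10],
   [nat_lit 12, nat_lit 16, nat_lit 12],
   [nat_lit 14, nat_lit 16, nat_lit 14]],
  []]

def HT : List (List (Nat × Nat × Nat)) := [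
  [],
  [(0, 18, 0), (0, 27, 1), (0, 28, 1), (0, 29, 1), (0, 30, 1), (0, 31, 1), (0, 32, 1), (0, 33, 1), (0, 34, 1)],
  [(2, 0, 0)],
  [(0, 27, 0), (0, 19, 0), (0, 35, 1), (0, 36, 1), (0, 37, 1), (0, 38, 1), (0, 39, 1), (0, 40, 1), (0, 41, 1)],
  [(2, 2, 0)],
  [(0, 28, 0), (0, 20, 0), (0, 35, 0), (0, 42, 1), (0, 43, 1), (0, 44, 1), (0, 45, 1), (0, 46, 1), (0, 47, 1)],
  [(2, 4, 0)],
  [(0, 29, 0), (0, 21, 0), (0, 36, 0), (0, 42, 0), (0, 48, 1), (0, 49, 1), (0, 50, 1), (0, 51, 1), (0, 52, 1)],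
  [(2, 6, 0)],
  [(0, 30, 0), (0, 22, 0), (0, 37, 0), (0, 43, 0), (0, 48, 0), (0, 53, 1), (0, 54, 1), (0, 55, 1), (0, 56, 1)],
  [(2, 8, 0)],
  [(0, 31, 0), (0, 23, 0), (0, 38, 0), (0, 44, 0), (0, 49, 0), (0, 53, 0), (0, 57, 1), (0, 58, 1), (0, 59, 1)],
  [(2, 10, 0)],
  [(0, 32, 0), (0, 24, 0), (0, 39, 0), (0, 45, 0), (0, 50, 0), (0, 54, 0), (0, 57, 0), (0, 60, 1), (0, 61, 1)],
  [(2, 12, 0)],
  [(0, 33, 0), (0, 25, 0), (0, 40, 0), (0, 46, 0), (0, 51, 0), (0, 55, 0), (0, 58, 0), (0, 60, 0), (0, 62, 1)],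
  [(2, 14, 0)],
  [(0, 34, 0), (0, 26, 0), (0, 41, 0), (0, 47, 0), (0, 52, 0), (0, 56, 0), (0, 59, 0), (0, 61, 0), (0, 62, 0)],
  []]

def W : List (List Nat) := [[2],
   [3],
   [4],
   [5],
   [6],
   [7],
   [8],
   [9],
   [10],
   [11],
   [12],
   [13],
   [14],
   [15],
   [16],
   [17]]

noncomputable def P : Par := ⟨T, (nat_lit 4), (nat_lit 15), (nat_lit 240), (nat_lit 12), (nat_lit 4095), (nat_lit 5), (nat_lit 31), (nat_lit 18), (nat_lit 27), (nat_lit 32), (nat_lit 0x9ca1173d8d52d0931c8510c01), RT⟩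

noncomputable def J0 : List Nat := [
  nat_lit 0x431000043100004310000431000043100004310000431000043100421000000000000000006120202020202020202040e13040404040404040410121305050505050504141416130606060606041818181a1307070707041c1c1c1c1e13080808042020202020221309090424242424242426130a04282828282828282a13041041041041041041041041041041041041041041041041041041041041041041041041041041041041041041041041041041041041041041041041041041041041041041041041]

theorem c0 : chk T (nat_lit 4) (nat_lit 15) (nat_lit 240) (nat_lit 12) (nat_lit 4095) (nat_lit 5) (nat_lit 31) (nat_lit 18) (nat_lit 27) (nat_lit 32) (nat_lit 0x9ca1173d8d52d0931c8510c01) (nat_lit 4) (nat_lit 15) RT (nat_lit 16) J0 (nat_lit 16) = true := by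
  decide +kernel

theorem r0 : P.RowsOK 16 32 := chk_sound P _ _ _ J0 _ _ (by decide +kernel) c0

theorem index.{u} : IndexLe.{u} 18 A11.R W 11 :=
  indexLe_of_cert P HT (by decide +kernel)
    (show P.RowsOK 16 32 from r0)

end Cfsg.Agent.Comp.A11.Top
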