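import Cfsg.Agent.Comp.A11.Pres
import Cfsg.Agent.Comp.A11.Top

set_option autoImplicit false
set_option maxRecDepth 100000

namespace Cfsg.Agent.Comp.A11
open Cfsg.Agent.Comp

namespace Tk7

noncomputable def t0 : Tr := (Tr.leaf (nat_lit 0x1ffffffff001ffffffff001ffffffff001ffffffff001ffffffff001ffffffff001ffffffff001ffffffff001ffffffff001ffffffff001ffffffff001ffffffff001ffffffff861ffc28810821ffc08072001ffc19031))

noncomputable def T : Tr := t0

def RT : List (List (List Nat)) := [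
  [],
  [[nat_lit 0, nat_lit 0]],
  []]

def HT : List (List (Nat × Nat × Nat)) := [
  [],
  [(0, 2, 0)],
  []]

def R : List (List Nat) :=
  [[0, 1],
   [1, 0],
   [0, 0, 0]]

def W : List (List Nat) := []

noncomputable def P : Par := ⟨T, (nat_lit 4), (nat_lit 15), (nat_lit 44), (nat_lit 11), (nat_lit 2047), (nat_lit 5), (nat_lit 31), (nat_lit 2), (nat_lit 19), (nat_lit 32), (nat_lit 0x18801), RT⟩

noncomputable def J0 : List Nat := [
  nat_lit 0x124661111111111111111111111111111111111111111]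

theorem c0 : chk T (nat_lit 4) (nat_lit 15) (nat_lit 44) (nat_lit 11) (nat_lit 2047) (nat_lit 5) (nat_lit 31) (nat_lit 2) (nat_lit 19) (nat_lit 32) (nat_lit 0x18801) (nat_lit 2) (nat_lit 3) RT (nat_lit 16) J0 (nat_lit 16) = true := by
  decide +kernel

theorem r0 : P.RowsOK 16 32 := chk_sound P _ _ _ J0 _ _ (by decide +kernel) c0

theorem index.{u} : IndexLe.{u} 2 R W 3 :=
  indexLe_of_cert P HT (by decide +kernel)
    (show P.RowsOK 16 32 from r0)

end Tk7

theorem upK_7 : CardLe (genW s [[16], [17]]) 3 :=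
  CardLe.tc (V' := []) (n := 3) (m := 1) [16, 17] Tk7.index pres.sat (by decide +kernel) (by decide +kernel) (by decide +kernel) (cardLe_nil s)

namespace Tk6

noncomputable def t0 : Tr := (Tr.leaf (nat_lit 0xfffffffffffffff000fffffffffffffff000fffffffffffffff000fffffffffffffff000fffffffffffffff000fffffffffffffff000fffffffffffffff000fffffffffffffff000fffffffffffffff000fffffffffffffff000fffffffffffffff000fffffffffffffff871fff0920110d30f3430fff0510b3051010410fff033072010072000fff050030032031))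

noncomputable def T : Tr := t0

def RT : List (List (List Nat)) := [
  [],
  [[nat_lit 0, nat_lit 0],
   [nat_lit 2, nat_lit 0, nat_lit 2]],
  [[nat_lit 5]],
  [[nat_lit 0, nat_lit 2, nat_lit 0],
   [nat_lit 2, nat_lit 2]],
  []]

def HT : List (List (Nat × Nat × Nat)) := [
  [],
  [(0, 4, 0), (0, 6, 1)],
  [(2, 0, 0)],
  [(0, 6, 0), (0, 5, 0)],
  []]

def R : List (List Nat) :=
  [[0, 1],
   [1, 0],
   [2, 3],
   [3, 2],
   [0, 0, 0],
   [2, 2, 2],
   [0, 2, 0, 2]]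

def W : List (List Nat) := [[2],
   [3]]

noncomputable def P : Par := ⟨T, (nat_lit 4), (nat_lit 15), (nat_lit 72), (nat_lit 12), (nat_lit 4095), (nat_lit 5), (nat_lit 31), (nat_lit 4), (nat_lit 20), (nat_lit 32), (nat_lit 0xa410c01), RT⟩

noncomputable def J0 : List Nat := [
  nat_lit 0x4d049019884e71111111111111111111111111111111111111111111111111111111111111]

theorem c0 : chk T (nat_lit 4) (nat_lit 15) (nat_lit 72) (nat_lit 12) (nat_lit 4095) (nat_lit 5) (nat_lit 31) (nat_lit 4) (nat_lit 20) (nat_lit 32) (nat_lit 0xa410c01) (nat_lit 2) (nat_lit 3) RT (nat_lit 16) J0 (nat_lit 16) = true := by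
  decide +kernel

theorem r0 : P.RowsOK 16 32 := chk_sound P _ _ _ J0 _ _ (by decide +kernel) c0

theorem index.{u} : IndexLe.{u} 4 R W 4 :=
  indexLe_of_cert P HT (by decide +kernel)
    (show P.RowsOK 16 32 from r0)

end Tk6

theorem upK_6 : CardLe (genW s [[14], [15], [16], [17]]) 12 :=
  CardLe.tc (V' := [[16], [17]]) (n := 4) (m := 3) [14, 15, 16, 17] Tk6.index pres.sat (by decide +kernel) (by decide +kernel) (by decide +kernel) upK_7

namespace Tk5

noncomputable def t0 : Tr := (Tr.leaf (nat_lit 0xfffffffffffffffffffff000fffffffffffffffffffff000fffffffffffffffffffff000fffffffffffffffffffff000fffffffffffffffffffff000fffffffffffffffffffff000fffffffffffffffffffff000fffffffffffffffffffff000fffffffffffffffffffff000fffffffffffffffffffff000fffffffffffffffffffff8b1fff0920110d40f40d40f4871fff0d30f30920110d30f3430fff0510b40510b3051010410fff034072033072010072000fff050030050030032031))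

noncomputable def T : Tr := t0

def RT : List (List (List Nat)) := [
  [],
  [[nat_lit 0, nat_lit 0],
   [nat_lit 2, nat_lit 0, nat_lit 2],
   [nat_lit 4, nat_lit 0, nat_lit 4]],
  [[nat_lit 7]],
  [[nat_lit 0, nat_lit 2, nat_lit 0],
   [nat_lit 2, nat_lit 2],
   [nat_lit 4, nat_lit 2, nat_lit 4]],
  [[nat_lit 7]],
  [[nat_lit 0, nat_lit 4, nat_lit 0],
   [nat_lit 4, nat_lit 4],
   [nat_lit 2, nat_lit 4, nat_lit 2]],
  []]

def HT : List (List (Nat × Nat × Nat)) := [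
  [],
  [(0, 6, 0), (0, 9, 1), (0, 10, 1)],
  [(2, 0, 0)],
  [(0, 9, 0), (0, 7, 0), (0, 11, 1)],
  [(2, 2, 0)],
  [(0, 10, 0), (0, 8, 0), (0, 11, 0)],
  []]

def R : List (List Nat) :=
  [[0, 1],
   [1, 0],
   [2, 3],
   [3, 2],
   [4, 5],
   [5, 4],
   [0, 0, 0],
   [2, 2, 2],
   [4, 4, 4],
   [0, 2, 0, 2],
   [0, 4, 0, 4],
   [2, 4, 2, 4]]

def W : List (List Nat) := [[2],
   [3],
   [4],
   [5]]

noncomputable def P : Par := ⟨T, (nat_lit 4), (nat_lit 15), (nat_lit 96), (nat_lit 12), (nat_lit 4095), (nat_lit 5), (nat_lit 31), (nat_lit 6), (nat_lit 21), (nat_lit 32), (nat_lit 0x3988510c01), RT⟩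

noncomputable def J0 : List Nat := [
  nat_lit 0x464000232022200018a082087162044122c2108421084210842108421084210842108421084210842108421084210842108421084210842108421084210842108421]

theorem c0 : chk T (nat_lit 4) (nat_lit 15) (nat_lit 96) (nat_lit 12) (nat_lit 4095) (nat_lit 5) (nat_lit 31) (nat_lit 6) (nat_lit 21) (nat_lit 32) (nat_lit 0x3988510c01) (nat_lit 3) (nat_lit 7) RT (nat_lit 16) J0 (nat_lit 16) = true := by
  decide +kernel

theorem r0 : P.RowsOK 16 32 := chk_sound P _ _ _ J0 _ _ (by decide +kernel) c0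

theorem index.{u} : IndexLe.{u} 6 R W 5 :=
  indexLe_of_cert P HT (by decide +kernel)
    (show P.RowsOK 16 32 from r0)

end Tk5

theorem upK_5 : CardLe (genW s [[12], [13], [14], [15], [16], [17]]) 60 :=
  CardLe.tc (V' := [[14], [15], [16], [17]]) (n := 5) (m := 12) [12, 13, 14, 15, 16, 17] Tk5.index pres.sat (by decide +kernel) (by decide +kernel) (by decide +kernel) upK_6

namespace Tk4

noncomputable def t0 : Tr := (Tr.leaf (nat_lit 0xfffffffffffffffffffffffffff000fffffffffffffffffffffffffff000fffffffffffffffffffffffffff000fffffffffffffffffffffffffff000fffffffffffffffffffffffffff000fffffffffffffffffffffffffff000fffffffffffffffffffffffffff000fffffffffffffffffffffffffff000fffffffffffffffffffffffffff000fffffffffffffffffffffffffff8f1fff0920110d50f50d50f50d50f58b1fff0d40f40920110d40f40d40f4871fff0d30f30d30f30920110d30f3430fff0510b50510b40510b3051010410fff035072034072033072010072000fff050030050030050030032031))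

noncomputable def T : Tr := t0

def RT : List (List (List Nat)) := [
  [],
  [[nat_lit 0, nat_lit 0],
   [nat_lit 2, nat_lit 0, nat_lit 2],
   [nat_lit 4, nat_lit 0, nat_lit 4],
   [nat_lit 6, nat_lit 0, nat_lit 6]],
  [[nat_lit 9]],
  [[nat_lit 0, nat_lit 2, nat_lit 0],
   [nat_lit 2, nat_lit 2],
   [nat_lit 4, nat_lit 2, nat_lit 4],
   [nat_lit 6, nat_lit 2, nat_lit 6]],
  [[nat_lit 9]],
  [[nat_lit 0, nat_lit 4, nat_lit 0],
   [nat_lit 4, nat_lit 4],
   [nat_lit 2, nat_lit 4, nat_lit 2],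
   [nat_lit 6, nat_lit 4, nat_lit 6]],
  [[nat_lit 9]],
  [[nat_lit 0, nat_lit 6, nat_lit 0],
   [nat_lit 6, nat_lit 6],
   [nat_lit 2, nat_lit 6, nat_lit 2],
   [nat_lit 4, nat_lit 6, nat_lit 4]],
  []]

def HT : List (List (Nat × Nat × Nat)) := [
  [],
  [(0, 8, 0), (0, 12, 1), (0, 13, 1), (0, 14, 1)],
  [(2, 0, 0)],
  [(0, 12, 0), (0, 9, 0), (0, 15, 1), (0, 16, 1)],
  [(2, 2, 0)],
  [(0, 13, 0), (0, 10, 0), (0, 15, 0), (0, 17, 1)],
  [(2, 4, 0)],
  [(0, 14, 0), (0, 11, 0), (0, 16, 0), (0, 17, 0)],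
  []]

def R : List (List Nat) :=
  [[0, 1],
   [1, 0],
   [2, 3],
   [3, 2],
   [4, 5],
   [5, 4],
   [6, 7],
   [7, 6],
   [0, 0, 0],
   [2, 2, 2],
   [4, 4, 4],
   [6, 6, 6],
   [0, 2, 0, 2],
   [0, 4, 0, 4],
   [0, 6, 0, 6],
   [2, 4, 2, 4],
   [2, 6, 2, 6],
   [4, 6, 4, 6]]

def W : List (List Nat) := [[2],
   [3],
   [4],
   [5],
   [6],
   [7]]

noncomputable def P : Par := ⟨T, (nat_lit 4), (nat_lit 15), (nat_lit 120), (nat_lit 12), (nat_lit 4095), (nat_lit 5), (nat_lit 31), (nat_lit 8), (nat_lit 22), (nat_lit 32), (nat_lit 0x12831c8510c01), RT⟩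

noncomputable def J0 : List Nat := [
  nat_lit 0x8c800046400023202220000062820820871620811048b14228a2c5842108421084210842108421084210842108421084210842108421084210842108421084210842108421084210842108421084210842108421]

theorem c0 : chk T (nat_lit 4) (nat_lit 15) (nat_lit 120) (nat_lit 12) (nat_lit 4095) (nat_lit 5) (nat_lit 31) (nat_lit 8) (nat_lit 22) (nat_lit 32) (nat_lit 0x12831c8510c01) (nat_lit 3) (nat_lit 7) RT (nat_lit 16) J0 (nat_lit 16) = true := by
  decide +kernel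

theorem r0 : P.RowsOK 16 32 := chk_sound P _ _ _ J0 _ _ (by decide +kernel) c0

theorem index.{u} : IndexLe.{u} 8 R W 6 :=
  indexLe_of_cert P HT (by decide +kernel)
    (show P.RowsOK 16 32 from r0)

end Tk4

theorem upK_4 : CardLe (genW s [[10], [11], [12], [13], [14], [15], [16], [17]]) 360 :=
  CardLe.tc (V' := [[12], [13], [14], [15], [16], [17]]) (n := 6) (m := 60) [10, 11, 12, 13, 14, 15, 16, 17] Tk4.index pres.sat (by decide +kernel) (by decide +kernel) (by decide +kernel) upK_5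

namespace Tk3

noncomputable def t0 : Tr := (Tr.leaf (nat_lit 0xfffffffffffffffffffffffffffffffff000fffffffffffffffffffffffffffffffff000fffffffffffffffffffffffffffffffff000fffffffffffffffffffffffffffffffff000fffffffffffffffffffffffffffffffff000fffffffffffffffffffffffffffffffff000fffffffffffffffffffffffffffffffff000fffffffffffffffffffffffffffffffff000fffffffffffffffffffffffffffffffff931fff0920110d60f60d60f60d60f60d60f68f1fff0d50f50920110d50f50d50f50d50f58b1fff0d40f40d40f40920110d40f40d40f4871fff0d30f30d30f30d30f30920110d30f3430fff0510b60510b50510b40510b3051010410fff036072035072034072033072010072000fff050030050030050030050030032031))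

noncomputable def T : Tr := t0

def RT : List (List (List Nat)) := [
  [],
  [[nat_lit 0, nat_lit 0],
   [nat_lit 2, nat_lit 0, nat_lit 2],
   [nat_lit 4, nat_lit 0, nat_lit 4],
   [nat_lit 6, nat_lit 0, nat_lit 6],
   [nat_lit 8, nat_lit 0, nat_lit 8]],
  [[nat_lit 11]],
  [[nat_lit 0, nat_lit 2, nat_lit 0],
   [nat_lit 2, nat_lit 2],
   [nat_lit 4, nat_lit 2, nat_lit 4],
   [nat_lit 6, nat_lit 2, nat_lit 6],
   [nat_lit 8, nat_lit 2, nat_lit 8]],
  [[nat_lit 11]],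
  [[nat_lit 0, nat_lit 4, nat_lit 0],
   [nat_lit 4, nat_lit 4],
   [nat_lit 2, nat_lit 4, nat_lit 2],
   [nat_lit 6, nat_lit 4, nat_lit 6],
   [nat_lit 8, nat_lit 4, nat_lit 8]],
  [[nat_lit 11]],
  [[nat_lit 0, nat_lit 6, nat_lit 0],
   [nat_lit 6, nat_lit 6],
   [nat_lit 2, nat_lit 6, nat_lit 2],
   [nat_lit 4, nat_lit 6, nat_lit 4],
   [nat_lit 8, nat_lit 6, nat_lit 8]],
  [[nat_lit 11]],
  [[nat_lit 0, nat_lit 8, nat_lit 0],
   [nat_lit 8, nat_lit 8],
   [nat_lit 2, nat_lit 8, nat_lit 2],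
   [nat_lit 4, nat_lit 8, nat_lit 4],
   [nat_lit 6, nat_lit 8, nat_lit 6]],
  []]

def HT : List (List (Nat × Nat × Nat)) := [
  [],
  [(0, 10, 0), (0, 15, 1), (0, 16, 1), (0, 17, 1), (0, 18, 1)],
  [(2, 0, 0)],
  [(0, 15, 0), (0, 11, 0), (0, 19, 1), (0, 20, 1), (0, 21, 1)],
  [(2, 2, 0)],
  [(0, 16, 0), (0, 12, 0), (0, 19, 0), (0, 22, 1), (0, 23, 1)],
  [(2, 4, 0)],
  [(0, 17, 0), (0, 13, 0), (0, 20, 0), (0, 22, 0), (0, 24, 1)],
  [(2, 6, 0)],
  [(0, 18, 0), (0, 14, 0), (0, 21, 0), (0, 23, 0), (0, 24, 0)],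
  []]

def R : List (List Nat) :=
  [[0, 1],
   [1, 0],
   [2, 3],
   [3, 2],
   [4, 5],
   [5, 4],
   [6, 7],
   [7, 6],
   [8, 9],
   [9, 8],
   [0, 0, 0],
   [2, 2, 2],
   [4, 4, 4],
   [6, 6, 6],
   [8, 8, 8],
   [0, 2, 0, 2],
   [0, 4, 0, 4],
   [0, 6, 0, 6],
   [0, 8, 0, 8],
   [2, 4, 2, 4],
   [2, 6, 2, 6],
   [2, 8, 2, 8],
   [4, 6, 4, 6],
   [4, 8, 4, 8],
   [6, 8, 6, 8]]

def W : List (List Nat) := [[2],
   [3],
   [4],
   [5],
   [6],
   [7],
   [8],
   [9]]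

noncomputable def P : Par := ⟨T, (nat_lit 4), (nat_lit 15), (nat_lit 144), (nat_lit 12), (nat_lit 4095), (nat_lit 5), (nat_lit 31), (nat_lit 10), (nat_lit 23), (nat_lit 32), (nat_lit 0x5a90931c8510c01), RT⟩

noncomputable def J0 : List Nat := [
  nat_lit 0x11900008c8000464000232022200000018a082082087162082044122c514228a2c58c11861868b08421084210842108421084210842108421084210842108421084210842108421084210842108421084210842108421084210842108421084210842108421]

theorem c0 : chk T (nat_lit 4) (nat_lit 15) (nat_lit 144) (nat_lit 12) (nat_lit 4095) (nat_lit 5) (nat_lit 31) (nat_lit 10) (nat_lit 23) (nat_lit 32) (nat_lit 0x5a90931c8510c01) (nat_lit 3) (nat_lit 7) RT (nat_lit 16) J0 (nat_lit 16) = true := by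
  decide +kernel

theorem r0 : P.RowsOK 16 32 := chk_sound P _ _ _ J0 _ _ (by decide +kernel) c0

theorem index.{u} : IndexLe.{u} 10 R W 7 :=
  indexLe_of_cert P HT (by decide +kernel)
    (show P.RowsOK 16 32 from r0)

end Tk3

theorem upK_3 : CardLe (genW s [[8], [9], [10], [11], [12], [13], [14], [15], [16], [17]]) 2520 :=
  CardLe.tc (V' := [[10], [11], [12], [13], [14], [15], [16], [17]]) (n := 7) (m := 360) [8, 9, 10, 11, 12, 13, 14, 15, 16, 17] Tk3.index pres.sat (by decide +kernel) (by decide +kernel) (by decide +kernel) upK_4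

namespace Tk2

noncomputable def t0 : Tr := (Tr.leaf (nat_lit 0xfffffffffffffffffffffffffffffffffffffff000fffffffffffffffffffffffffffffffffffffff000fffffffffffffffffffffffffffffffffffffff000fffffffffffffffffffffffffffffffffffffff000fffffffffffffffffffffffffffffffffffffff000fffffffffffffffffffffffffffffffffffffff000fffffffffffffffffffffffffffffffffffffff000fffffffffffffffffffffffffffffffffffffff971fff0920110d70f70d70f70d70f70d70f70d70f7931fff0d60f60920110d60f60d60f60d60f60d60f68f1fff0d50f50d50f50920110d50f50d50f50d50f58b1fff0d40f40d40f40d40f40920110d40f40d40f4871fff0d30f30d30f30d30f30d30f30920110d30f3430fff0510b70510b60510b50510b40510b3051010410fff037072036072035072034072033072010072000fff050030050030050030050030050030032031))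

noncomputable def T : Tr := t0

def RT : List (List (List Nat)) := [
  [],
  [[nat_lit 0, nat_lit 0],
   [nat_lit 2, nat_lit 0, nat_lit 2],
   [nat_lit 4, nat_lit 0, nat_lit 4],
   [nat_lit 6, nat_lit 0, nat_lit 6],
   [nat_lit 8, nat_lit 0, nat_lit 8],
   [nat_lit 10, nat_lit 0, nat_lit 10]],
  [[nat_lit 13]],
  [[nat_lit 0, nat_lit 2, nat_lit 0],
   [nat_lit 2, nat_lit 2],
   [nat_lit 4, nat_lit 2, nat_lit 4],
   [nat_lit 6, nat_lit 2, nat_lit 6],
   [nat_lit 8, nat_lit 2, nat_lit 8],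
   [nat_lit 10, nat_lit 2, nat_lit 10]],
  [[nat_lit 13]],
  [[nat_lit 0, nat_lit 4, nat_lit 0],
   [nat_lit 4, nat_lit 4],
   [nat_lit 2, nat_lit 4, nat_lit 2],
   [nat_lit 6, nat_lit 4, nat_lit 6],
   [nat_lit 8, nat_lit 4, nat_lit 8],
   [nat_lit 10, nat_lit 4, nat_lit 10]],
  [[nat_lit 13]],
  [[nat_lit 0, nat_lit 6, nat_lit 0],
   [nat_lit 6, nat_lit 6],
   [nat_lit 2, nat_lit 6, nat_lit 2],
   [nat_lit 4, nat_lit 6, nat_lit 4],
   [nat_lit 8, nat_lit 6, nat_lit 8],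
   [nat_lit 10, nat_lit 6, nat_lit 10]],
  [[nat_lit 13]],
  [[nat_lit 0, nat_lit 8, nat_lit 0],
   [nat_lit 8, nat_lit 8],
   [nat_lit 2, nat_lit 8, nat_lit 2],
   [nat_lit 4, nat_lit 8, nat_lit 4],
   [nat_lit 6, nat_lit 8, nat_lit 6],
   [nat_lit 10, nat_lit 8, nat_lit 10]],
  [[nat_lit 13]],
  [[nat_lit 0, nat_lit 10, nat_lit 0],
   [nat_lit 10, nat_lit 10],
   [nat_lit 2, nat_lit 10, nat_lit 2],
   [nat_lit 4, nat_lit 10, nat_lit 4],
   [nat_lit 6, nat_lit 10, nat_lit 6],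
   [nat_lit 8, nat_lit 10, nat_lit 8]],
  []]

def HT : List (List (Nat × Nat × Nat)) := [
  [],
  [(0, 12, 0), (0, 18, 1), (0, 19, 1), (0, 20, 1), (0, 21, 1), (0, 22, 1)],
  [(2, 0, 0)],
  [(0, 18, 0), (0, 13, 0), (0, 23, 1), (0, 24, 1), (0, 25, 1), (0, 26, 1)],
  [(2, 2, 0)],
  [(0, 19, 0), (0, 14, 0), (0, 23, 0), (0, 27, 1), (0, 28, 1), (0, 29, 1)],
  [(2, 4, 0)],
  [(0, 20, 0), (0, 15, 0), (0, 24, 0), (0, 27, 0), (0, 30, 1), (0, 31, 1)],
  [(2, 6, 0)],
  [(0, 21, 0), (0, 16, 0), (0, 25, 0), (0, 28, 0), (0, 30, 0), (0, 32, 1)],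
  [(2, 8, 0)],
  [(0, 22, 0), (0, 17, 0), (0, 26, 0), (0, 29, 0), (0, 31, 0), (0, 32, 0)],
  []]

def R : List (List Nat) :=
  [[0, 1],
   [1, 0],
   [2, 3],
   [3, 2],
   [4, 5],
   [5, 4],
   [6, 7],
   [7, 6],
   [8, 9],
   [9, 8],
   [10, 11],
   [11, 10],
   [0, 0, 0],
   [2, 2, 2],
   [4, 4, 4],
   [6, 6, 6],
   [8, 8, 8],
   [10, 10, 10],
   [0, 2, 0, 2],
   [0, 4, 0, 4],
   [0, 6, 0, 6],
   [0, 8, 0, 8],
   [0, 10, 0, 10],
   [2, 4, 2, 4],
   [2, 6, 2, 6],
   [2, 8, 2, 8],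
   [2, 10, 2, 10],
   [4, 6, 4, 6],
   [4, 8, 4, 8],
   [4, 10, 4, 10],
   [6, 8, 6, 8],
   [6, 10, 6, 10],
   [8, 10, 8, 10]]

def W : List (List Nat) := [[2],
   [3],
   [4],
   [5],
   [6],
   [7],
   [8],
   [9],
   [10],
   [11]]

noncomputable def P : Par := ⟨T, (nat_lit 4), (nat_lit 15), (nat_lit 168), (nat_lit 12), (nat_lit 4095), (nat_lit 5), (nat_lit 31), (nat_lit 12), (nat_lit 24), (nat_lit 32), (nat_lit 0x1ac52d0931c8510c01), RT⟩

noncomputable def J0 : List Nat := [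
  nat_lit 0x23200011900008c800046400023202220000000062820820820871620820811048b14514228a2c58c30461861a2c708e38e38f1610842108421084210842108421084210842108421084210842108421084210842108421084210842108421084210842108421084210842108421084210842108421]

theorem c0 : chk T (nat_lit 4) (nat_lit 15) (nat_lit 168) (nat_lit 12) (nat_lit 4095) (nat_lit 5) (nat_lit 31) (nat_lit 12) (nat_lit 24) (nat_lit 32) (nat_lit 0x1ac52d0931c8510c01) (nat_lit 3) (nat_lit 7) RT (nat_lit 16) J0 (nat_lit 16) = true := by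
  decide +kernel

theorem r0 : P.RowsOK 16 32 := chk_sound P _ _ _ J0 _ _ (by decide +kernel) c0

theorem index.{u} : IndexLe.{u} 12 R W 8 :=
  indexLe_of_cert P HT (by decide +kernel)
    (show P.RowsOK 16 32 from r0)

end Tk2

theorem upK_2 : CardLe (genW s [[6], [7], [8], [9], [10], [11], [12], [13], [14], [15], [16], [17]]) 20160 :=
  CardLe.tc (V' := [[8], [9], [10], [11], [12], [13], [14], [15], [16], [17]]) (n := 8) (m := 2520) [6, 7, 8, 9, 10, 11, 12, 13, 14, 15, 16, 17] Tk2.index pres.sat (by decide +kernel) (by decide +kernel) (by decide +kernel) upK_3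

namespace Tk1

noncomputable def t0 : Tr := (Tr.leaf (nat_lit 0xfffffffffffffffffffffffffffffffffffffffffffff000fffffffffffffffffffffffffffffffffffffffffffff000fffffffffffffffffffffffffffffffffffffffffffff000fffffffffffffffffffffffffffffffffffffffffffff000fffffffffffffffffffffffffffffffffffffffffffff000fffffffffffffffffffffffffffffffffffffffffffff000fffffffffffffffffffffffffffffffffffffffffffff9b1fff0920110d80f80d80f80d80f80d80f80d80f80d80f8971fff0d70f70920110d70f70d70f70d70f70d70f70d70f7931fff0d60f60d60f60920110d60f60d60f60d60f60d60f68f1fff0d50f50d50f50d50f50920110d50f50d50f50d50f58b1fff0d40f40d40f40d40f40d40f40920110d40f40d40f4871fff0d30f30d30f30d30f30d30f30d30f30920110d30f3430fff0510b80510b70510b60510b50510b40510b3051010410fff038072037072036072035072034072033072010072000fff050030050030050030050030050030050030032031))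

noncomputable def T : Tr := t0

def RT : List (List (List Nat)) := [
  [],
  [[nat_lit 0, nat_lit 0],
   [nat_lit 2, nat_lit 0, nat_lit 2],
   [nat_lit 4, nat_lit 0, nat_lit 4],
   [nat_lit 6, nat_lit 0, nat_lit 6],
   [nat_lit 8, nat_lit 0, nat_lit 8],
   [nat_lit 10, nat_lit 0, nat_lit 10],
   [nat_lit 12, nat_lit 0, nat_lit 12]],
  [[nat_lit 15]],
  [[nat_lit 0, nat_lit 2, nat_lit 0],
   [nat_lit 2, nat_lit 2],
   [nat_lit 4, nat_lit 2, nat_lit 4],
   [nat_lit 6, nat_lit 2, nat_lit 6],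
   [nat_lit 8, nat_lit 2, nat_lit 8],
   [nat_lit 10, nat_lit 2, nat_lit 10],
   [nat_lit 12, nat_lit 2, nat_lit 12]],
  [[nat_lit 15]],
  [[nat_lit 0, nat_lit 4, nat_lit 0],
   [nat_lit 4, nat_lit 4],
   [nat_lit 2, nat_lit 4, nat_lit 2],
   [nat_lit 6, nat_lit 4, nat_lit 6],
   [nat_lit 8, nat_lit 4, nat_lit 8],
   [nat_lit 10, nat_lit 4, nat_lit 10],
   [nat_lit 12, nat_lit 4, nat_lit 12]],
  [[nat_lit 15]],
  [[nat_lit 0, nat_lit 6, nat_lit 0],
   [nat_lit 6, nat_lit 6],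
   [nat_lit 2, nat_lit 6, nat_lit 2],
   [nat_lit 4, nat_lit 6, nat_lit 4],
   [nat_lit 8, nat_lit 6, nat_lit 8],
   [nat_lit 10, nat_lit 6, nat_lit 10],
   [nat_lit 12, nat_lit 6, nat_lit 12]],
  [[nat_lit 15]],
  [[nat_lit 0, nat_lit 8, nat_lit 0],
   [nat_lit 8, nat_lit 8],
   [nat_lit 2, nat_lit 8, nat_lit 2],
   [nat_lit 4, nat_lit 8, nat_lit 4],
   [nat_lit 6, nat_lit 8, nat_lit 6],
   [nat_lit 10, nat_lit 8, nat_lit 10],
   [nat_lit 12, nat_lit 8, nat_lit 12]],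
  [[nat_lit 15]],
  [[nat_lit 0, nat_lit 10, nat_lit 0],
   [nat_lit 10, nat_lit 10],
   [nat_lit 2, nat_lit 10, nat_lit 2],
   [nat_lit 4, nat_lit 10, nat_lit 4],
   [nat_lit 6, nat_lit 10, nat_lit 6],
   [nat_lit 8, nat_lit 10, nat_lit 8],
   [nat_lit 12, nat_lit 10, nat_lit 12]],
  [[nat_lit 15]],
  [[nat_lit 0, nat_lit 12, nat_lit 0],
   [nat_lit 12, nat_lit 12],
   [nat_lit 2, nat_lit 12, nat_lit 2],
   [nat_lit 4, nat_lit 12, nat_lit 4],
   [nat_lit 6, nat_lit 12, nat_lit 6],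
   [nat_lit 8, nat_lit 12, nat_lit 8],
   [nat_lit 10, nat_lit 12, nat_lit 10]],
  []]

def HT : List (List (Nat × Nat × Nat)) := [
  [],
  [(0, 14, 0), (0, 21, 1), (0, 22, 1), (0, 23, 1), (0, 24, 1), (0, 25, 1), (0, 26, 1)],
  [(2, 0, 0)],
  [(0, 21, 0), (0, 15, 0), (0, 27, 1), (0, 28, 1), (0, 29, 1), (0, 30, 1), (0, 31, 1)],
  [(2, 2, 0)],
  [(0, 22, 0), (0, 16, 0), (0, 27, 0), (0, 32, 1), (0, 33, 1), (0, 34, 1), (0, 35, 1)],
  [(2, 4, 0)],
  [(0, 23, 0), (0, 17, 0), (0, 28, 0), (0, 32, 0), (0, 36, 1), (0, 37, 1), (0, 38, 1)],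
  [(2, 6, 0)],
  [(0, 24, 0), (0, 18, 0), (0, 29, 0), (0, 33, 0), (0, 36, 0), (0, 39, 1), (0, 40, 1)],
  [(2, 8, 0)],
  [(0, 25, 0), (0, 19, 0), (0, 30, 0), (0, 34, 0), (0, 37, 0), (0, 39, 0), (0, 41, 1)],
  [(2, 10, 0)],
  [(0, 26, 0), (0, 20, 0), (0, 31, 0), (0, 35, 0), (0, 38, 0), (0, 40, 0), (0, 41, 0)],
  []]

def R : List (List Nat) :=
  [[0, 1],
   [1, 0],
   [2, 3],
   [3, 2],
   [4, 5],
   [5, 4],
   [6, 7],
   [7, 6],
   [8, 9],
   [9, 8],
   [10, 11],
   [11, 10],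
   [12, 13],
   [13, 12],
   [0, 0, 0],
   [2, 2, 2],
   [4, 4, 4],
   [6, 6, 6],
   [8, 8, 8],
   [10, 10, 10],
   [12, 12, 12],
   [0, 2, 0, 2],
   [0, 4, 0, 4],
   [0, 6, 0, 6],
   [0, 8, 0, 8],
   [0, 10, 0, 10],
   [0, 12, 0, 12],
   [2, 4, 2, 4],
   [2, 6, 2, 6],
   [2, 8, 2, 8],
   [2, 10, 2, 10],
   [2, 12, 2, 12],
   [4, 6, 4, 6],
   [4, 8, 4, 8],
   [4, 10, 4, 10],
   [4, 12, 4, 12],
   [6, 8, 6, 8],
   [6, 10, 6, 10],
   [6, 12, 6, 12],
   [8, 10, 8, 10],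
   [8, 12, 8, 12],
   [10, 12, 10, 12]]

def W : List (List Nat) := [[2],
   [3],
   [4],
   [5],
   [6],
   [7],
   [8],
   [9],
   [10],
   [11],
   [12],
   [13]]

noncomputable def P : Par := ⟨T, (nat_lit 4), (nat_lit 15), (nat_lit 192), (nat_lit 12), (nat_lit 4095), (nat_lit 5), (nat_lit 31), (nat_lit 14), (nat_lit 25), (nat_lit 32), (nat_lit 0x7b98d52d0931c8510c01), RT⟩

noncomputable def J0 : List Nat := [
  nat_lit 0x43100004310000431000043100004310000431004210000000000000612020202020202040e13040404040404101213050505050414141613060606041818181a130707041c1c1c1c1e13080420202020202213041041041041041041041041041041041041041041041041041041041041041041041041041041041041041041041041041041041041041041041041041041041041041041041041041041041041041]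

theorem c0 : chk T (nat_lit 4) (nat_lit 15) (nat_lit 192) (nat_lit 12) (nat_lit 4095) (nat_lit 5) (nat_lit 31) (nat_lit 14) (nat_lit 25) (nat_lit 32) (nat_lit 0x7b98d52d0931c8510c01) (nat_lit 4) (nat_lit 15) RT (nat_lit 16) J0 (nat_lit 16) = true := by
  decide +kernel

theorem r0 : P.RowsOK 16 32 := chk_sound P _ _ _ J0 _ _ (by decide +kernel) c0

theorem index.{u} : IndexLe.{u} 14 R W 9 :=
  indexLe_of_cert P HT (by decide +kernel)
    (show P.RowsOK 16 32 from r0)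

end Tk1

theorem upK_1 : CardLe (genW s [[4], [5], [6], [7], [8], [9], [10], [11], [12], [13], [14], [15], [16], [17]]) 181440 :=
  CardLe.tc (V' := [[6], [7], [8], [9], [10], [11], [12], [13], [14], [15], [16], [17]]) (n := 9) (m := 20160) [4, 5, 6, 7, 8, 9, 10, 11, 12, 13, 14, 15, 16, 17] Tk1.index pres.sat (by decide +kernel) (by decide +kernel) (by decide +kernel) upK_2

namespace Tk0

noncomputable def t0 : Tr := (Tr.leaf (nat_lit 0xfffffffffffffffffffffffffffffffffffffffffffffffffff000fffffffffffffffffffffffffffffffffffffffffffffffffff000fffffffffffffffffffffffffffffffffffffffffffffffffff000fffffffffffffffffffffffffffffffffffffffffffffffffff000fffffffffffffffffffffffffffffffffffffffffffffffffff000fffffffffffffffffffffffffffffffffffffffffffffffffff9f1fff0920110d90f90d90f90d90f90d90f90d90f90d90f90d90f99b1fff0d80f80920110d80f80d80f80d80f80d80f80d80f80d80f8971fff0d70f70d70f70920110d70f70d70f70d70f70d70f70d70f7931fff0d60f60d60f60d60f60920110d60f60d60f60d60f60d60f68f1fff0d50f50d50f50d50f50d50f50920110d50f50d50f50d50f58b1fff0d40f40d40f40d40f40d40f40d40f40920110d40f40d40f4871fff0d30f30d30f30d30f30d30f30d30f30d30f30920110d30f3430fff0510b90510b80510b70510b60510b50510b40510b3051010410fff039072038072037072036072035072034072033072010072000fff050030050030050030050030050030050030050030032031))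

noncomputable def T : Tr := t0

def RT : List (List (List Nat)) := [
  [],
  [[nat_lit 0, nat_lit 0],
   [nat_lit 2, nat_lit 0, nat_lit 2],
   [nat_lit 4, nat_lit 0, nat_lit 4],
   [nat_lit 6, nat_lit 0, nat_lit 6],
   [nat_lit 8, nat_lit 0, nat_lit 8],
   [nat_lit 10, nat_lit 0, nat_lit 10],
   [nat_lit 12, nat_lit 0, nat_lit 12],
   [nat_lit 14, nat_lit 0, nat_lit 14]],
  [[nat_lit 17]],
  [[nat_lit 0, nat_lit 2, nat_lit 0],
   [nat_lit 2, nat_lit 2],
   [nat_lit 4, nat_lit 2, nat_lit 4],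
   [nat_lit 6, nat_lit 2, nat_lit 6],
   [nat_lit 8, nat_lit 2, nat_lit 8],
   [nat_lit 10, nat_lit 2, nat_lit 10],
   [nat_lit 12, nat_lit 2, nat_lit 12],
   [nat_lit 14, nat_lit 2, nat_lit 14]],
  [[nat_lit 17]],
  [[nat_lit 0, nat_lit 4, nat_lit 0],
   [nat_lit 4, nat_lit 4],
   [nat_lit 2, nat_lit 4, nat_lit 2],
   [nat_lit 6, nat_lit 4, nat_lit 6],
   [nat_lit 8, nat_lit 4, nat_lit 8],
   [nat_lit 10, nat_lit 4, nat_lit 10],
   [nat_lit 12, nat_lit 4, nat_lit 12],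
   [nat_lit 14, nat_lit 4, nat_lit 14]],
  [[nat_lit 17]],
  [[nat_lit 0, nat_lit 6, nat_lit 0],
   [nat_lit 6, nat_lit 6],
   [nat_lit 2, nat_lit 6, nat_lit 2],
   [nat_lit 4, nat_lit 6, nat_lit 4],
   [nat_lit 8, nat_lit 6, nat_lit 8],
   [nat_lit 10, nat_lit 6, nat_lit 10],
   [nat_lit 12, nat_lit 6, nat_lit 12],
   [nat_lit 14, nat_lit 6, nat_lit 14]],
  [[nat_lit 17]],
  [[nat_lit 0, nat_lit 8, nat_lit 0],
   [nat_lit 8, nat_lit 8],
   [nat_lit 2, nat_lit 8, nat_lit 2],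
   [nat_lit 4, nat_lit 8, nat_lit 4],
   [nat_lit 6, nat_lit 8, nat_lit 6],
   [nat_lit 10, nat_lit 8, nat_lit 10],
   [nat_lit 12, nat_lit 8, nat_lit 12],
   [nat_lit 14, nat_lit 8, nat_lit 14]],
  [[nat_lit 17]],
  [[nat_lit 0, nat_lit 10, nat_lit 0],
   [nat_lit 10, nat_lit 10],
   [nat_lit 2, nat_lit 10, nat_lit 2],
   [nat_lit 4, nat_lit 10, nat_lit 4],
   [nat_lit 6, nat_lit 10, nat_lit 6],
   [nat_lit 8, nat_lit 10, nat_lit 8],
   [nat_lit 12, nat_lit 10, nat_lit 12],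
   [nat_lit 14, nat_lit 10, nat_lit 14]],
  [[nat_lit 17]],
  [[nat_lit 0, nat_lit 12, nat_lit 0],
   [nat_lit 12, nat_lit 12],
   [nat_lit 2, nat_lit 12, nat_lit 2],
   [nat_lit 4, nat_lit 12, nat_lit 4],
   [nat_lit 6, nat_lit 12, nat_lit 6],
   [nat_lit 8, nat_lit 12, nat_lit 8],
   [nat_lit 10, nat_lit 12, nat_lit 10],
   [nat_lit 14, nat_lit 12, nat_lit 14]],
  [[nat_lit 17]],
  [[nat_lit 0, nat_lit 14, nat_lit 0],
   [nat_lit 14, nat_lit 14],
   [nat_lit 2, nat_lit 14, nat_lit 2],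
   [nat_lit 4, nat_lit 14, nat_lit 4],
   [nat_lit 6, nat_lit 14, nat_lit 6],
   [nat_lit 8, nat_lit 14, nat_lit 8],
   [nat_lit 10, nat_lit 14, nat_lit 10],
   [nat_lit 12, nat_lit 14, nat_lit 12]],
  []]

def HT : List (List (Nat × Nat × Nat)) := [
  [],
  [(0, 16, 0), (0, 24, 1), (0, 25, 1), (0, 26, 1), (0, 27, 1), (0, 28, 1), (0, 29, 1), (0, 30, 1)],
  [(2, 0, 0)],
  [(0, 24, 0), (0, 17, 0), (0, 31, 1), (0, 32, 1), (0, 33, 1), (0, 34, 1), (0, 35, 1), (0, 36, 1)],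
  [(2, 2, 0)],
  [(0, 25, 0), (0, 18, 0), (0, 31, 0), (0, 37, 1), (0, 38, 1), (0, 39, 1), (0, 40, 1), (0, 41, 1)],
  [(2, 4, 0)],
  [(0, 26, 0), (0, 19, 0), (0, 32, 0), (0, 37, 0), (0, 42, 1), (0, 43, 1), (0, 44, 1), (0, 45, 1)],
  [(2, 6, 0)],
  [(0, 27, 0), (0, 20, 0), (0, 33, 0), (0, 38, 0), (0, 42, 0), (0, 46, 1), (0, 47, 1), (0, 48, 1)],
  [(2, 8, 0)],
  [(0, 28, 0), (0, 21, 0), (0, 34, 0), (0, 39, 0), (0, 43, 0), (0, 46, 0), (0, 49, 1), (0, 50, 1)],
  [(2, 10, 0)],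
  [(0, 29, 0), (0, 22, 0), (0, 35, 0), (0, 40, 0), (0, 44, 0), (0, 47, 0), (0, 49, 0), (0, 51, 1)],
  [(2, 12, 0)],
  [(0, 30, 0), (0, 23, 0), (0, 36, 0), (0, 41, 0), (0, 45, 0), (0, 48, 0), (0, 50, 0), (0, 51, 0)],
  []]

def R : List (List Nat) :=
  [[0, 1],
   [1, 0],
   [2, 3],
   [3, 2],
   [4, 5],
   [5, 4],
   [6, 7],
   [7, 6],
   [8, 9],
   [9, 8],
   [10, 11],
   [11, 10],
   [12, 13],
   [13, 12],
   [14, 15],
   [15, 14],
   [0, 0, 0],
   [2, 2, 2],
   [4, 4, 4],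
   [6, 6, 6],
   [8, 8, 8],
   [10, 10, 10],
   [12, 12, 12],
   [14, 14, 14],
   [0, 2, 0, 2],
   [0, 4, 0, 4],
   [0, 6, 0, 6],
   [0, 8, 0, 8],
   [0, 10, 0, 10],
   [0, 12, 0, 12],
   [0, 14, 0, 14],
   [2, 4, 2, 4],
   [2, 6, 2, 6],
   [2, 8, 2, 8],
   [2, 10, 2, 10],
   [2, 12, 2, 12],
   [2, 14, 2, 14],
   [4, 6, 4, 6],
   [4, 8, 4, 8],
   [4, 10, 4, 10],
   [4, 12, 4, 12],
   [4, 14, 4, 14],
   [6, 8, 6, 8],
   [6, 10, 6, 10],
   [6, 12, 6, 12],
   [6, 14, 6, 14],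
   [8, 10, 8, 10],
   [8, 12, 8, 12],
   [8, 14, 8, 14],
   [10, 12, 10, 12],
   [10, 14, 10, 14],
   [12, 14, 12, 14]]

def W : List (List Nat) := [[2],
   [3],
   [4],
   [5],
   [6],
   [7],
   [8],
   [9],
   [10],
   [11],
   [12],
   [13],
   [14],
   [15]]

noncomputable def P : Par := ⟨T, (nat_lit 4), (nat_lit 15), (nat_lit 216), (nat_lit 12), (nat_lit 4095), (nat_lit 5), (nat_lit 31), (nat_lit 16), (nat_lit 26), (nat_lit 32), (nat_lit 0x23073d8d52d0931c8510c01), RT⟩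

noncomputable def J0 : List Nat := [
  nat_lit 0x10c400010c400010c400010c400010c400010c400010c4010840000000000000018480808080808080810384c1010101010101040484c1414141414105050584c1818181810606060684c1c1c1c1070707070784c2020108080808080884c2410909090909090984c1041041041041041041041041041041041041041041041041041041041041041041041041041041041041041041041041041041041041041041041041041041041041041041041041041041041]

theorem c0 : chk T (nat_lit 4) (nat_lit 15) (nat_lit 216) (nat_lit 12) (nat_lit 4095) (nat_lit 5) (nat_lit 31) (nat_lit 16) (nat_lit 26) (nat_lit 32) (nat_lit 0x23073d8d52d0931c8510c01) (nat_lit 4) (nat_lit 15) RT (nat_lit 16) J0 (nat_lit 16) = true := by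
  decide +kernel

theorem r0 : P.RowsOK 16 32 := chk_sound P _ _ _ J0 _ _ (by decide +kernel) c0

theorem index.{u} : IndexLe.{u} 16 R W 10 :=
  indexLe_of_cert P HT (by decide +kernel)
    (show P.RowsOK 16 32 from r0)

end Tk0

theorem upK : CardLe (genW s [[2], [3], [4], [5], [6], [7], [8], [9], [10], [11], [12], [13], [14], [15], [16], [17]]) 1814400 :=
  CardLe.tc (V' := [[4], [5], [6], [7], [8], [9], [10], [11], [12], [13], [14], [15], [16], [17]]) (n := 10) (m := 181440) [2, 3, 4, 5, 6, 7, 8, 9, 10, 11, 12, 13, 14, 15, 16, 17] Tk0.index pres.sat (by decide +kernel) (by decide +kernel) (by decide +kernel) upK_1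

theorem up : CardLe (gen s 18) 19958400 := upK.step (Top.index _ s pres.sat)

end Cfsg.Agent.Comp.A11
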